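import Groth.Agent.CycLib28.KoszulTor
import Groth.Agent.CAlgH.KoszulAppend
import Groth.Agent.CAlgH.KindBasic
import Groth.Agent.Misc15.KoszulBridge
import Groth.Agent.CAlgH.KoszulEuler.Growth

/-!
# Tor of two quotients by overlapping Koszul regular sequences
-/

set_option autoImplicit false
set_option backward.isDefEq.respectTransparency false
set_option backward.isDefEq.respectTransparency.types false
set_option backward.defeqAttrib.useBackward true
set_option linter.style.haveILetI false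
set_option maxHeartbeats 800000

universe u

open CategoryTheory CategoryTheory.Limits ComplexShape MonoidalCategory CochainComplex
open Groth.Agent.Misc15.Koszul Groth.Agent.CAlgH.KoszulEuler
open CohIII (koszulCx)

namespace Groth.Agent.KosTor28

variable {A : Type u} [CommRing A]

theorem subsingleton_KH_iff (M : ModuleCat.{u} A) (l : List A) (i : ℤ) :
    Subsingleton (KH M l i) ↔ IsZero ((koszulCx M l).homology i) := by
  obtain ⟨e⟩ := nonempty_homology_equiv (koszulCx M l) i
  exact ⟨fun h => @ModuleCat.isZero_of_subsingleton A _ _ e.toEquiv.subsingleton,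
    fun h => (@Equiv.subsingleton_congr _ _ e.toEquiv).1 (ModuleCat.subsingleton_of_isZero h)⟩

theorem KReg.perm {l m : List A} (h : l.Perm m) (hl : LCI.IsKoszulRegularSeq A l) : LCI.IsKoszulRegularSeq A m := by
  rw [← List.ofFn_get l, CAlgH.KoszulRegular.isKoszulRegularSeq_iff] at hl
  rw [← List.ofFn_get m, CAlgH.KoszulRegular.isKoszulRegularSeq_iff]
  have key : ∀ {p q : ℕ} (f : Fin p → A) (g : Fin q → A), p = q →
      Ideal.span (Set.range g) = Ideal.span (Set.range f) →
      CAlgH.KindBasic.SeqF .koszul f → CAlgH.KindBasic.SeqF .koszul g := by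
    rintro p q f g rfl hs hf
    exact CAlgH.KindBasic.seqF_of_span_eq hf hs
  exact key l.get m.get h.length_eq (by
    rw [Set.range_list_get, Set.range_list_get]
    exact congrArg Ideal.span (Set.ext fun x => h.symm.mem_iff)) hl

/-- The cone of multiplication by an annihilating scalar. -/
theorem nonempty_KH_cons (M : ModuleCat.{u} A) {a : A} (ha : ∀ m : M, a • m = 0) (l : List A) (i : ℤ) :
    Nonempty (KH M (a :: l) i ≃ₗ[A] KH M l (i + 1) × KH M l i) := by
  let K := koszulCx M l
  let C := mappingCone (a • 𝟙 K)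
  have hd : ∀ (j k : ℤ) (h : j + 1 = k) (x : C.X j), csnd _ ((C.d j k).hom x) = (K.d j k).hom (csnd _ x) := by
    intro j k h x
    rw [csnd_d _ k h, smul_id_f, smul_X_eq_zero M ha, zero_add]
  have hZ : ∀ {j : ℤ} {x : C.X j}, x ∈ relZ C (fun _ => ⊥) j ↔
      cfst _ (j + 1) rfl x ∈ relZ K (fun _ => ⊥) (j + 1) ∧ csnd _ x ∈ relZ K (fun _ => ⊥) j := by
    intro j x
    rw [mem_relZ (j + 1) rfl, mem_relZ (j + 1 + 1) rfl, mem_relZ (j + 1) rfl, Submodule.mem_bot, Submodule.mem_bot,
      Submodule.mem_bot]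
    constructor
    · intro h
      refine ⟨?_, by rw [← hd j (j + 1) rfl x, h, csnd_zero]⟩
      have h1 := cfst_d (a • 𝟙 K) (j + 1) (j + 1 + 1) rfl rfl x
      rw [h, cfst_zero, eq_comm, neg_eq_zero] at h1
      exact h1
    · rintro ⟨h1, h2⟩
      refine cone_ext _ (j + 1 + 1) rfl ?_ ?_
      · rw [cfst_d _ (j + 1) (j + 1 + 1) rfl rfl, h1, neg_zero, cfst_zero]
      · rw [hd j (j + 1) rfl x, h2, csnd_zero]
  have hB : ∀ {j : ℤ} {x : C.X j}, x ∈ relB C (fun _ => ⊥) j ↔
      cfst _ (j + 1) rfl x ∈ relB K (fun _ => ⊥) (j + 1) ∧ csnd _ x ∈ relB K (fun _ => ⊥) j := by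
    intro j x
    rw [mem_relB (j - 1) (sub_add_cancel j 1), mem_relB j rfl, mem_relB (j - 1) (sub_add_cancel j 1)]
    simp only [Submodule.mem_bot, exists_eq_left, zero_add]
    constructor
    · rintro ⟨w, rfl⟩
      refine ⟨⟨-cfst _ j (sub_add_cancel j 1) w, ?_⟩, ⟨csnd _ w, (hd (j - 1) j (sub_add_cancel j 1) w).symm⟩⟩
      rw [cfst_d _ j (j + 1) (sub_add_cancel j 1) rfl, map_neg]
    · rintro ⟨⟨u, hu⟩, ⟨v, hv⟩⟩
      refine ⟨cmk _ j (sub_add_cancel j 1) (-u) v, cone_ext _ (j + 1) rfl ?_ ?_⟩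
      · rw [cfst_d _ j (j + 1) (sub_add_cancel j 1) rfl, cfst_cmk, map_neg, neg_neg, hu]
      · rw [hd (j - 1) j (sub_add_cancel j 1), csnd_cmk, hv]
  let p₁ : relZ C (fun _ => ⊥) i →ₗ[A] KH M l (i + 1) := (Submodule.mkQ _).comp
    (((mappingCone.fst (a • 𝟙 K)).1.v i (i + 1) rfl).hom.restrict fun x hx => (hZ.1 hx).1)
  let p₂ : relZ C (fun _ => ⊥) i →ₗ[A] KH M l i := (Submodule.mkQ _).comp
    (((mappingCone.snd (a • 𝟙 K)).v i i (add_zero i)).hom.restrict fun x hx => (hZ.1 hx).2)
  have hsurj : Function.Surjective (p₁.prod p₂) := by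
    rintro ⟨y₁, y₂⟩
    obtain ⟨⟨u, hu⟩, rfl⟩ := Submodule.mkQ_surjective _ y₁
    obtain ⟨⟨v, hv⟩, rfl⟩ := Submodule.mkQ_surjective _ y₂
    refine ⟨⟨cmk _ (i + 1) rfl u v, hZ.2 ⟨by rwa [cfst_cmk], by rwa [csnd_cmk]⟩⟩, Prod.ext ?_ ?_⟩
    · exact congrArg (Submodule.mkQ _) (Subtype.ext (cfst_cmk _ (i + 1) rfl u v))
    · exact congrArg (Submodule.mkQ _) (Subtype.ext (csnd_cmk _ (i + 1) rfl u v))
  refine ⟨(Submodule.quotEquivOfEq _ _ ?_).trans (LinearMap.quotKerEquivOfSurjective _ hsurj)⟩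
  ext ⟨x, hx⟩
  rw [Submodule.mem_comap, LinearMap.mem_ker]
  show x ∈ relB C (fun _ => ⊥) i ↔ (p₁ ⟨x, hx⟩, p₂ ⟨x, hx⟩) = ((0, 0) : KH M l (i + 1) × KH M l i)
  rw [Prod.mk.injEq]
  refine hB.trans (and_congr ?_ ?_)
  · exact (Submodule.Quotient.mk_eq_zero ((relB K (fun _ => ⊥) (i + 1)).comap (relZ K (fun _ => ⊥) (i + 1)).subtype)
      (x := ⟨cfst _ (i + 1) rfl x, (hZ.1 hx).1⟩)).symm
  · exact (Submodule.Quotient.mk_eq_zero ((relB K (fun _ => ⊥) i).comap (relZ K (fun _ => ⊥) i).subtype)
      (x := ⟨csnd _ x, (hZ.1 hx).2⟩)).symm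

section Base

variable (m h : List A)

local notation "π" => Ideal.Quotient.mk (Ideal.ofList m)

/-- `A/(m)` as an `A`-module. -/
noncomputable abbrev QMod : ModuleCat.{u} A :=
  res (Ideal.Quotient.mk (Ideal.ofList m)) (ModuleCat.of (A ⧸ Ideal.ofList m) (A ⧸ Ideal.ofList m))

/-- The Koszul complex of the remaining elements on the quotient is acyclic off degree zero. -/
theorem isZero_koszulCx_quot (hm : LCI.IsKoszulRegularSeq A m) (hmh : LCI.IsKoszulRegularSeq A (h ++ m))
    (j : ℤ) (hj : j ≠ 0) : IsZero ((koszulCx (QMod m) h).homology j) := by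
  obtain ⟨r₀⟩ : Nonempty (CAlgH.KoszulAppend.Res π (_root_.Koszul.koszul A m) (_root_.Koszul.koszul (A ⧸ Ideal.ofList m) [])) := by
    have hker : RingHom.ker π = Ideal.span (Set.range m.get) := by
      rw [Ideal.mk_ker, Set.range_list_get]
    have := CAlgH.KoszulAppend.exists_res Ideal.Quotient.mk_surjective m.get hker (by rwa [List.ofFn_get])
    rwa [List.ofFn_get] at this
  obtain ⟨r⟩ := CAlgH.KoszulAppend.res_append h ⟨r₀⟩
  have hB : CAlgH.KoszulAppend.ExAt (_root_.Koszul.koszul (A ⧸ Ideal.ofList m) (h.map π)) (j - 1) j (j + 1) := by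
    intro z hz
    obtain ⟨x, rfl⟩ := r.e_surj j z
    obtain ⟨w, hw0, hw⟩ := r.acyclic j (j + 1) (j + 1 + 1) rfl rfl ((_root_.Koszul.koszul A (h ++ m)).d j (j + 1) x)
      (by
        show r.e (j + 1) (((_root_.Koszul.koszul A (h ++ m)).d j (j + 1)).hom x) = 0
        rw [r.e_d j (j + 1) rfl, hz])
      (ConcreteCategory.congr_hom ((_root_.Koszul.koszul A (h ++ m)).d_comp_d j (j + 1) (j + 1 + 1)) x)
    obtain ⟨v, hv⟩ := (CAlgH.KoszulAppend.exAt_iff _ (sub_add_cancel j 1) rfl).1 (hmh j hj) (x - w)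
      (by rw [map_sub, hw]; exact sub_self _)
    exact ⟨r.e (j - 1) v, by rw [← r.e_d (j - 1) j (sub_add_cancel j 1), hv, map_sub, hw0, sub_zero]⟩
  have hB' : CAlgH.KoszulAppend.ExAt
      (koszulCx (ModuleCat.of (A ⧸ Ideal.ofList m) (A ⧸ Ideal.ofList m)) ((h.map π).map (· ^ 1))) (j - 1) j (j + 1) := by
    rw [show ((h.map π).map (· ^ 1)) = h.map π by simp, ← CommAlg6.KoszulFree.koszul_eq]
    exact hB
  have h1 : CAlgH.KoszulAppend.ExAt (koszulCx (QMod m) (h.map (· ^ 1))) (j - 1) j (j + 1) := by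
    intro z hz
    obtain ⟨z', rfl⟩ := (cmpEquiv π _ 1 h j).surjective z
    rw [← cmpEquiv_d π _ 1 h j (j + 1) rfl, AddEquiv.map_eq_zero_iff] at hz
    obtain ⟨w, hw⟩ := hB' z' hz
    exact ⟨cmpEquiv π _ 1 h (j - 1) w, by rw [← cmpEquiv_d π _ 1 h (j - 1) j (sub_add_cancel j 1), hw]⟩
  rw [show h.map (· ^ 1) = h by simp] at h1
  exact (CAlgH.KoszulAppend.exAt_iff _ (sub_add_cancel j 1) rfl).2 h1

theorem nonempty_KH_zero_quot :
    Nonempty (KH (QMod m) h 0 ≃ₗ[A] A ⧸ (Ideal.ofList m ⊔ Ideal.ofList h)) := by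
  obtain ⟨e⟩ := nonempty_KH_zero (QMod m) h
  let q : A →ₗ[A] (QMod m : Type u) :=
    { toFun := fun r => (π r : A ⧸ Ideal.ofList m)
      map_add' := fun r s => map_add π r s
      map_smul' := fun r s => map_mul π r s }
  let ψ : A →ₗ[A] (QMod m : Type u) ⧸ (Ideal.ofList h • (⊤ : Submodule A (QMod m))) := (Submodule.mkQ _).comp q
  have hq : Function.Surjective q := Ideal.Quotient.mk_surjective
  have hψ : Function.Surjective ψ := (Submodule.mkQ_surjective _).comp hq
  have hker : LinearMap.ker ψ = Ideal.ofList m ⊔ Ideal.ofList h := by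
    have h2 : Ideal.ofList h • (⊤ : Submodule A (QMod m)) = Submodule.map q (Ideal.ofList h) := by
      rw [← LinearMap.range_eq_top.2 hq, ← Submodule.map_top, ← Submodule.map_smul'', Ideal.smul_eq_mul, Ideal.mul_top]
    rw [LinearMap.ker_comp, Submodule.ker_mkQ, h2, Submodule.comap_map_eq, sup_comm]
    congr 1
    ext r
    exact Ideal.Quotient.eq_zero_iff_mem
  exact ⟨e.symm.trans ((Submodule.quotEquivOfEq _ _ hker).symm.trans (LinearMap.quotKerEquivOfSurjective ψ hψ)).symm⟩

end Base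

/-- Koszul homology of `f ++ h` on a module killed by `f`. -/
theorem nonempty_KH_append (M : ModuleCat.{u} A) (h : List A) (Q : Type u) [AddCommGroup Q] [Module A Q]
    (hpos : ∀ j : ℤ, j ≠ 0 → Subsingleton (KH M h j)) (h0 : Nonempty (KH M h 0 ≃ₗ[A] Q)) :
    ∀ (f : List A), (∀ a ∈ f, ∀ x : M, a • x = 0) → ∀ n : ℕ,
      Nonempty (KH M (f ++ h) (-(n : ℤ)) ≃ₗ[A] (Fin (f.length.choose n) → Q))
  | [], _, n => by
    rcases n with _ | n
    · obtain ⟨e⟩ := h0
      exact ⟨e.trans (LinearEquiv.funUnique (Fin 1) A Q).symm⟩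
    · haveI : Subsingleton (KH M ([] ++ h) (-((n + 1 : ℕ) : ℤ))) := hpos (-((n + 1 : ℕ) : ℤ)) (by omega)
      haveI : IsEmpty (Fin (([] : List A).length.choose (n + 1))) := by
        rw [List.length_nil, Nat.choose_zero_succ]
        infer_instance
      exact ⟨LinearEquiv.ofSubsingleton _ _⟩
  | a :: f, hf, n => by
    have ih := nonempty_KH_append M h Q hpos h0 f (fun b hb => hf b (List.mem_cons_of_mem a hb))
    obtain ⟨e⟩ := nonempty_KH_cons M (hf a List.mem_cons_self) (f ++ h) (-(n : ℤ))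
    rcases n with _ | n
    · obtain ⟨e₀⟩ := ih 0
      haveI : Subsingleton (KH M (f ++ h) (-((0 : ℕ) : ℤ) + 1)) :=
        haveI := subsingleton_X M (f ++ h) (-((0 : ℕ) : ℤ) + 1) (Or.inr (by simp))
        subsingleton_HR
      let e₁ : (KH M (f ++ h) (-((0 : ℕ) : ℤ) + 1) × KH M (f ++ h) (-((0 : ℕ) : ℤ))) ≃ₗ[A] KH M (f ++ h) (-((0 : ℕ) : ℤ)) :=
        LinearEquiv.ofBijective (LinearMap.snd A _ _) ⟨fun x y hxy => Prod.ext (Subsingleton.elim _ _) hxy,
          LinearMap.snd_surjective⟩
      exact ⟨e.trans (e₁.trans (e₀.trans (LinearEquiv.funCongrLeft A Q (finCongr (by simp)))))⟩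
    · obtain ⟨e₁⟩ := ih n
      obtain ⟨e₂⟩ := ih (n + 1)
      rw [show -((n + 1 : ℕ) : ℤ) + 1 = -(n : ℤ) by push_cast; ring] at e
      refine ⟨e.trans ((e₁.prodCongr e₂).trans ((LinearEquiv.sumArrowLequivProdArrow _ _ A Q).symm.trans
        (LinearEquiv.funCongrLeft A Q ((finCongr ?_).trans finSumFinEquiv.symm))))⟩
      rw [List.length_cons, Nat.choose_succ_succ]

theorem exists_koszul_resolution' (l : List A) (hl : LCI.IsKoszulRegularSeq A l) :
    ∃ P : ProjectiveResolution (ModuleCat.of A (A ⧸ Ideal.ofList l)),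
      P.complex = (Koszul.koszul A l).restriction (embeddingUpIntLE 0) := by
  obtain ⟨e₀⟩ : Nonempty ((Koszul.koszul A l).homology 0 ≅ ModuleCat.of A (A ⧸ Ideal.ofList l)) := by
    obtain ⟨e⟩ := nonempty_KH_zero (ModuleCat.of A A) l
    obtain ⟨e'⟩ := nonempty_homology_equiv (koszulCx (ModuleCat.of A A) l) 0
    rw [CommAlg6.KoszulFree.koszul_eq l]
    exact ⟨(e'.trans (e.symm.trans (Submodule.quotEquivOfEq _ _ (Ideal.mul_top _)))).toModuleIso⟩
  have hex : ∀ i : ℤ, i ≠ 0 → IsZero ((Koszul.koszul A l).homology i) := hl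
  set K := Koszul.koszul A l
  have hd : K.d 0 1 = 0 := (CycLib28.isZero_koszul_pos l 1 (by omega)).eq_of_tgt _ _
  let φ : K.X 0 ⟶ ModuleCat.of A (A ⧸ Ideal.ofList l) :=
    K.pOpcycles 0 ≫ (K.isoHomologyι 0 1 (by simp) hd).inv ≫ e₀.hom
  have hz : K.d (-1) 0 ≫ φ = 0 := by simp [φ]
  have hφ : (ShortComplex.mk (K.d (-1) 0) φ hz).Exact ∧ Epi φ := by
    refine ⟨ShortComplex.exact_of_g_is_cokernel _ ?_, by dsimp [φ]; infer_instance⟩
    exact IsColimit.ofIsoColimit (K.opcyclesIsCokernel (-1) 0 (by simp))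
      (Cofork.ext ((K.isoHomologyι 0 1 (by simp) hd).symm ≪≫ e₀) (by simp [φ]))
  let Q := K.restriction (embeddingUpIntLE 0)
  let ψ : Q.X 0 ⟶ ModuleCat.of A (A ⧸ Ideal.ofList l) :=
    (K.restrictionXIso (embeddingUpIntLE 0) (i := 0) (i' := 0) rfl).hom ≫ φ
  have hψ : Q.d 1 0 ≫ ψ = 0 := by
    simp only [Q, ψ, HomologicalComplex.restriction_d_eq K (embeddingUpIntLE 0) (i := 1) (j := 0) (i' := -1) (j' := 0) rfl rfl,
      Category.assoc, Iso.inv_hom_id_assoc, hz, comp_zero]
  refine ⟨{ complex := Q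
            projective := fun n => CycLib28.projective_koszul l _
            π := (ChainComplex.toSingle₀Equiv _ _).symm ⟨ψ, hψ⟩
            quasiIso := ⟨fun n => ?_⟩ }, rfl⟩
  cases n with
  | zero =>
    rw [ChainComplex.quasiIsoAt₀_iff, ShortComplex.quasiIso_iff_of_zeros']
    · refine (ShortComplex.exact_and_epi_g_iff_of_iso ?_).2 hφ
      refine ShortComplex.isoMk (K.restrictionXIso (embeddingUpIntLE 0) (i := 1) (i' := -1) rfl)
        (K.restrictionXIso (embeddingUpIntLE 0) (i := 0) (i' := 0) rfl) (Iso.refl _) ?_ ?_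
      · dsimp [Q]
        simp [HomologicalComplex.restrictionXIso]
      · dsimp [ψ]
        simp
    all_goals first | rfl | simp [Q]
  | succ n =>
    rw [quasiIsoAt_iff_exactAt']
    · rw [HomologicalComplex.exactAt_iff_isZero_homology]
      refine IsZero.of_iso ?_ (K.restrictionHomologyIso (embeddingUpIntLE 0) (n + 2) (n + 1) n (by simp) (by simp)
        (i' := -((n : ℤ) + 2)) (j' := -((n : ℤ) + 1)) (k' := -(n : ℤ)) (by simp <;> omega) (by simp <;> omega) (by simp)
        (by simp <;> omega) (by simp))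
      exact hex _ (by omega)
    · exact ChainComplex.exactAt_succ_single_obj _ _

/-- Tor against a Koszul regular quotient is Koszul homology. -/
theorem nonempty_tor_equiv (l : List A) (hl : LCI.IsKoszulRegularSeq A l) (M : ModuleCat.{u} A) (n : ℕ) :
    Nonempty ((((CategoryTheory.Tor (ModuleCat.{u} A) (n + 1)).obj M).obj (ModuleCat.of A (A ⧸ Ideal.ofList l)) : Type u)
      ≃ₗ[A] KH M l (-((n + 1 : ℕ) : ℤ))) := by
  obtain ⟨P, hP⟩ := exists_koszul_resolution' l hl
  obtain ⟨e₁⟩ := nonempty_tensor_iso M l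
  obtain ⟨e₂⟩ := nonempty_homology_equiv (koszulCx M l) (-((n + 1 : ℕ) : ℤ))
  let i₁ := P.isoLeftDerivedObj (tensorLeft M) (n + 1)
  let i₂ := (HomologicalComplex.homologyFunctor (ModuleCat.{u} A) (ComplexShape.down ℕ) (n + 1)).mapIso
    ((NatIso.mapHomologicalComplex (BraidedCategory.tensorLeftIsoTensorRight M) (ComplexShape.down ℕ)).app P.complex)
  let T := DRing.tensorCx (Koszul.koszul A l) M
  have i₃ : Nonempty ((((tensorRight M).mapHomologicalComplex (ComplexShape.down ℕ)).obj P.complex).homology (n + 1) ≅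
      T.homology (-((n + 1 : ℕ) : ℤ))) := by
    rw [hP]
    exact ⟨T.restrictionHomologyIso (embeddingUpIntLE 0) (n + 2) (n + 1) n (by simp) (by simp)
      (i' := -((n : ℤ) + 2)) (j' := -((n + 1 : ℕ) : ℤ)) (k' := -(n : ℤ)) (by simp <;> omega) (by simp) (by simp)
      (by simp <;> omega) (by simp)⟩
  exact ⟨((i₁ ≪≫ i₂ ≪≫ i₃.some ≪≫ HomologicalComplex.homologyMapIso e₁ _).toLinearEquiv).trans e₂⟩

/-- Tor of two overlapping Koszul regular quotients. -/
theorem nonempty_tor_quotients (f g h : List A) (hfg : LCI.IsKoszulRegularSeq A (f ++ g))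
    (hfh : LCI.IsKoszulRegularSeq A (f ++ h)) (hfgh : LCI.IsKoszulRegularSeq A (f ++ g ++ h)) (n : ℕ) :
    Nonempty ((((CategoryTheory.Tor (ModuleCat.{u} A) (n + 1)).obj (ModuleCat.of A (A ⧸ Ideal.span {x | x ∈ f ++ g}))).obj
        (ModuleCat.of A (A ⧸ Ideal.span {x | x ∈ f ++ h})) : Type u) ≃ₗ[A]
      (Fin (f.length.choose (n + 1)) → A ⧸ (Ideal.ofList (f ++ g) ⊔ Ideal.ofList h))) := by
  change Nonempty ((((CategoryTheory.Tor (ModuleCat.{u} A) (n + 1)).obj (ModuleCat.of A (A ⧸ Ideal.ofList (f ++ g)))).obj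
        (ModuleCat.of A (A ⧸ Ideal.ofList (f ++ h))) : Type u) ≃ₗ[A] _)
  obtain ⟨e₁⟩ := nonempty_tor_equiv (f ++ h) hfh (QMod (f ++ g)) n
  obtain ⟨e₂⟩ := nonempty_KH_append (QMod (f ++ g)) h (A ⧸ (Ideal.ofList (f ++ g) ⊔ Ideal.ofList h))
    (fun j hj => (subsingleton_KH_iff _ _ _).2
      (isZero_koszulCx_quot (f ++ g) h hfg (KReg.perm List.perm_append_comm hfgh) j hj))
    (nonempty_KH_zero_quot (f ++ g) h) f (fun a ha x =>
      (show ∀ y : A ⧸ Ideal.ofList (f ++ g), Ideal.Quotient.mk (Ideal.ofList (f ++ g)) a * y = 0 from fun y => by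
        rw [Ideal.Quotient.eq_zero_iff_mem.2 (Ideal.subset_span (show a ∈ {x | x ∈ f ++ g} from List.mem_append_left g ha)), zero_mul]) x) (n + 1)
  let ι : ModuleCat.of A (A ⧸ Ideal.ofList (f ++ g)) ≅ QMod (f ++ g) := LinearEquiv.toModuleIso
    { toFun := fun x => x
      map_add' := fun _ _ => rfl
      map_smul' := fun r x => Algebra.smul_def r x
      invFun := fun x => x
      left_inv := fun _ => rfl
      right_inv := fun _ => rfl }
  exact ⟨((((CategoryTheory.Tor (ModuleCat.{u} A) (n + 1)).mapIso ι).app _).toLinearEquiv).trans (e₁.trans e₂)⟩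

/-- Exterior powers of a free module over a quotient. -/
theorem nonempty_exteriorPower_quot (K : Ideal A) (m i : ℕ) (hi : 1 ≤ i) (T : Type u) [AddCommGroup T] [Module A T]
    (e : T ≃ₗ[A] (Fin m → A ⧸ K)) : Nonempty ((⋀[A]^i T) ≃ₗ[A] (Fin (m.choose i) → A ⧸ K)) := by
  classical
  let q : (Fin m → A) →ₗ[A] T := e.symm.toLinearMap.comp (LinearMap.compLeft (Submodule.mkQ K) (Fin m))
  have hq : Function.Surjective q := e.symm.surjective.comp fun y =>
    ⟨fun j => (Submodule.mkQ_surjective K (y j)).choose, funext fun j => (Submodule.mkQ_surjective K (y j)).choose_spec⟩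
  have hqK : ∀ v, q v = 0 → v ∈ K • (⊤ : Submodule A (Fin m → A)) := fun v hv => by
    have h1 : ∀ j, v j ∈ K := fun j =>
      (Submodule.Quotient.mk_eq_zero K).1 (congrFun ((e.symm.map_eq_zero_iff).1 hv) j)
    rw [pi_eq_sum_univ v]
    exact Submodule.sum_mem _ fun j _ => Submodule.smul_mem_smul (h1 j) Submodule.mem_top
  let Φ := exteriorPower.map i q
  have hΦ : Function.Surjective Φ := exteriorPower.map_surjective hq
  have hker : LinearMap.ker Φ = K • (⊤ : Submodule A (⋀[A]^i (Fin m → A))) := by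
    refine le_antisymm ?_ ?_
    · let π₀ := Submodule.mkQ (K • (⊤ : Submodule A (⋀[A]^i (Fin m → A))))
      obtain ⟨σ, hσ⟩ := hq.hasRightInverse
      have hcong : ∀ (v : Fin i → Fin m → A) (j : Fin i) (x y : Fin m → A), q x = q y →
          π₀ (exteriorPower.ιMulti A i (Function.update v j x)) = π₀ (exteriorPower.ιMulti A i (Function.update v j y)) := by
        intro v j x y hxy
        refine (Submodule.Quotient.eq _).2 ?_
        have hd : x - y ∈ K • (⊤ : Submodule A (Fin m → A)) := hqK _ (by rw [map_sub, hxy, sub_self])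
        rw [show exteriorPower.ιMulti A i (Function.update v j x) - exteriorPower.ιMulti A i (Function.update v j y) =
          exteriorPower.ιMulti A i (Function.update v j (x - y)) from ((exteriorPower.ιMulti A i).map_update_sub v j x y).symm]
        refine Submodule.smul_induction_on hd (fun r hr z _ => ?_) fun z w hz hw => ?_
        · rw [(exteriorPower.ιMulti A i).map_update_smul]
          exact Submodule.smul_mem_smul hr Submodule.mem_top
        · rw [(exteriorPower.ιMulti A i).map_update_add]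
          exact add_mem hz hw
      have hfin : ∀ (v : Fin i → Fin m → A),
          π₀ (exteriorPower.ιMulti A i v) = π₀ (exteriorPower.ιMulti A i (σ ∘ q ∘ v)) := by
        intro v
        suffices ∀ s : Finset (Fin i), π₀ (exteriorPower.ιMulti A i v) =
            π₀ (exteriorPower.ιMulti A i (s.piecewise (σ ∘ q ∘ v) v)) by
          simpa using this Finset.univ
        intro s
        induction s using Finset.induction_on with
        | empty => rw [Finset.piecewise_empty]
        | insert j s hj ih =>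
          rw [ih, Finset.piecewise_insert]
          conv_lhs => rw [← Function.update_eq_self j (s.piecewise (σ ∘ q ∘ v) v)]
          refine hcong _ j _ _ ?_
          rw [Finset.piecewise_eq_of_notMem _ _ _ hj]
          exact (hσ _).symm
      let ω : AlternatingMap A T ((⋀[A]^i (Fin m → A)) ⧸ K • (⊤ : Submodule A (⋀[A]^i (Fin m → A)))) (Fin i) :=
        { toFun := fun t => π₀ (exteriorPower.ιMulti A i (σ ∘ t))
          map_update_add' := fun {d} t j x y => by
            have h1 : ∀ z : T, σ ∘ Function.update t j z = Function.update (σ ∘ t) j (σ z) := fun z => by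
              convert Function.comp_update σ t j z
            simp only [h1]
            rw [← map_add, ← (exteriorPower.ιMulti A i).map_update_add]
            obtain rfl : d = instDecidableEqFin i := Subsingleton.elim _ _
            exact hcong _ j (σ (x + y)) (σ x + σ y) (by rw [map_add, hσ, hσ, hσ])
          map_update_smul' := fun {d} t j r x => by
            have h1 : ∀ z : T, σ ∘ Function.update t j z = Function.update (σ ∘ t) j (σ z) := fun z => by
              convert Function.comp_update σ t j z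
            simp only [h1]
            rw [← map_smul, ← (exteriorPower.ιMulti A i).map_update_smul]
            obtain rfl : d = instDecidableEqFin i := Subsingleton.elim _ _
            exact hcong _ j (σ (r • x)) (r • σ x) (by rw [map_smul, hσ, hσ])
          map_eq_zero_of_eq' := fun t a b hab hne => by
            rw [(exteriorPower.ιMulti A i).map_eq_zero_of_eq _ (congrArg σ hab) hne, map_zero] }
      have hcomp : (exteriorPower.alternatingMapLinearEquiv ω).comp Φ = π₀ := by
        refine exteriorPower.linearMap_ext (AlternatingMap.ext fun v => ?_)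
        simp only [LinearMap.compAlternatingMap_apply, LinearMap.comp_apply, Φ, exteriorPower.map_apply_ιMulti,
          exteriorPower.alternatingMapLinearEquiv_apply_ιMulti]
        exact (hfin v).symm
      intro z hz
      have := DFunLike.congr_fun hcomp z
      rw [LinearMap.comp_apply, LinearMap.mem_ker.1 hz, map_zero] at this
      exact (Submodule.Quotient.mk_eq_zero _).1 this.symm
    · rw [Submodule.smul_le]
      intro r hr z _
      rw [LinearMap.mem_ker, map_smul]
      have hrT : ∀ t : T, r • t = 0 := fun t => e.injective (by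
        rw [map_smul, map_zero]
        funext j
        obtain ⟨y, hy⟩ := Submodule.mkQ_surjective K (e t j)
        rw [Pi.smul_apply, ← hy, ← map_smul]
        exact (Submodule.Quotient.mk_eq_zero K).2 (Ideal.mul_mem_right _ _ hr))
      have h0 : (r • LinearMap.id : (⋀[A]^i T) →ₗ[A] ⋀[A]^i T) = 0 := by
        refine exteriorPower.linearMap_ext (AlternatingMap.ext fun t => ?_)
        let j : Fin i := ⟨0, hi⟩
        have := (exteriorPower.ιMulti A i).map_update_smul t j r (t j)
        rw [Function.update_eq_self, hrT, (exteriorPower.ιMulti A i).map_coord_zero j (Function.update_self j 0 t)] at this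
        exact this.symm
      exact DFunLike.congr_fun h0 (Φ z)
  let E : (⋀[A]^i (Fin m → A)) ≃ₗ[A] (Fin (m.choose i) → A) :=
    ((Pi.basisFun A (Fin m)).exteriorPower i).equivFun.trans
      (LinearEquiv.funCongrLeft A A (Fintype.equivFinOfCardEq (by rw [← Nat.card_eq_fintype_card, Set.powersetCard.card, Nat.card_fin])).symm)
  let F : (⋀[A]^i (Fin m → A)) →ₗ[A] (Fin (m.choose i) → A ⧸ K) :=
    (LinearMap.compLeft (Submodule.mkQ K) _).comp E.toLinearMap
  have hF : Function.Surjective F := fun y => ⟨E.symm fun j => (Submodule.mkQ_surjective K (y j)).choose,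
    funext fun j => by
      simp only [F, LinearMap.comp_apply, LinearEquiv.coe_coe, LinearEquiv.apply_symm_apply]
      exact (Submodule.mkQ_surjective K (y j)).choose_spec⟩
  have hFker : LinearMap.ker F = K • (⊤ : Submodule A (⋀[A]^i (Fin m → A))) := by
    refine le_antisymm (fun z hz => ?_) (Submodule.smul_le.2 fun r hr z _ => ?_)
    · rw [← E.symm_apply_apply z, pi_eq_sum_univ (E z), map_sum]
      refine Submodule.sum_mem _ fun j _ => ?_
      rw [map_smul]
      exact Submodule.smul_mem_smul ((Submodule.Quotient.mk_eq_zero K).1 (congrFun hz j)) Submodule.mem_top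
    · rw [LinearMap.mem_ker, map_smul]
      funext j
      obtain ⟨y, hy⟩ := Submodule.mkQ_surjective K (F z j)
      rw [Pi.smul_apply, ← hy, ← map_smul]
      exact (Submodule.Quotient.mk_eq_zero K).2 (Ideal.mul_mem_right _ _ hr)
  exact ⟨(LinearMap.quotKerEquivOfSurjective Φ hΦ).symm.trans
    ((Submodule.quotEquivOfEq _ _ (hker.trans hFker.symm)).trans (LinearMap.quotKerEquivOfSurjective F hF))⟩

end Groth.Agent.KosTor28
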